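import Groth.Prelude.Def_EtRam
import Mathlib.RingTheory.Unramified.LocalRing
import Mathlib.RingTheory.DiscreteValuationRing.TFAE
import Mathlib.RingTheory.Valuation.ValuationRing
import Mathlib.RingTheory.Unramified.Basic
import Mathlib.RingTheory.EssentialFiniteness
import Mathlib.Algebra.GCDMonoid.IntegrallyClosed

/-!
# Residue fields of unramified algebras over a DVR are unramified extensions
-/

set_option autoImplicit false
universe u
open IsLocalRing EtRam

namespace K585.RamEtale

/-- A local domain `D` dominated by a valuation ring `V` inside its fraction field `L`, with `D` a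
valuation ring, is equal to `V`. -/
theorem surjective_of_valuationRing {D L : Type*} [CommRing D] [IsDomain D] [ValuationRing D]
    [Field L] [Algebra D L] [IsFractionRing D L] (V : ValuationSubring L)
    (h : ∀ d : D, algebraMap D L d ∈ V)
    (hloc : ∀ d : D, V.valuation (algebraMap D L d) = 1 → IsUnit d) (v : L) (hv : v ∈ V) :
    ∃ d : D, algebraMap D L d = v := by
  rcases ValuationRing.isInteger_or_isInteger D v with ⟨d, hd⟩ | ⟨d, hd⟩
  · exact ⟨d, hd⟩
  · by_cases hv0 : v = 0
    · exact ⟨0, by rw [hv0, map_zero]⟩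
    have h1 : V.valuation (algebraMap D L d) = 1 := by
      rw [hd]
      apply le_antisymm
      · rw [← hd]
        exact (V.valuation_le_one_iff _).mpr (h d)
      · rw [map_inv₀]
        have h2 : V.valuation v ≤ 1 := (V.valuation_le_one_iff _).mpr hv
        exact (one_le_inv₀ (zero_lt_iff.mpr ((map_ne_zero _).mpr hv0))).mpr h2
    obtain ⟨u, hu⟩ := hloc d h1
    refine ⟨(u⁻¹ : Dˣ), ?_⟩
    have h3 : algebraMap D L u * algebraMap D L ((u⁻¹ : Dˣ) : D) = 1 := by
      rw [← map_mul, Units.mul_inv, map_one]
    rw [hu, hd] at h3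
    rw [← one_mul (algebraMap D L _), ← mul_inv_cancel₀ hv0, mul_assoc, h3, mul_one]

variable {A C L : Type u} [CommRing A] [IsDomain A] [IsDiscreteValuationRing A]
  [CommRing C] [Algebra A C] [Module.Finite A C] [Algebra.FormallyUnramified A C]
  [Field L] [Algebra A L] [Algebra C L] [IsScalarTower A C L]

theorem isUnramifiedExt_of_unramified (hinj : Function.Injective (algebraMap A L))
    (hgen : ∀ x : L, ∃ (c : C) (a : A), a ≠ 0 ∧ x * algebraMap A L a = algebraMap C L c) :
    IsUnramifiedExt A (algebraMap A L) := by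
  intro V hV
  let _ : Algebra A V := (RingHom.codRestrict (algebraMap A L) V hV.1).toAlgebra
  intro hloc
  have hAV : ∀ a : A, ((algebraMap A V a : V) : L) = algebraMap A L a := fun _ => rfl
  -- `C` maps to `V`
  have hCV : ∀ c : C, algebraMap C L c ∈ V := by
    intro c
    have h1 : IsIntegral A (algebraMap C L c) := (Algebra.IsIntegral.isIntegral c).algebraMap
    have : IsScalarTower A V L := IsScalarTower.of_algebraMap_eq fun a => rfl
    have h2 : IsIntegral V (algebraMap C L c) := h1.tower_top
    obtain ⟨v, hv⟩ := IsIntegrallyClosed.isIntegral_iff.mp h2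
    rw [← hv]
    exact v.2
  let φ : C →+* V := (algebraMap C L).codRestrict V.toSubring hCV
  have hφ : ∀ c : C, ((φ c : V) : L) = algebraMap C L c := fun _ => rfl
  let q : Ideal C := (maximalIdeal V).comap φ
  have hq : q.IsPrime := inferInstance
  let Cq := Localization.AtPrime q
  let ψ : Cq →+* V := IsLocalization.lift (M := q.primeCompl) (g := φ) (fun y => by
    by_contra hy
    exact y.2 ((mem_maximalIdeal _).mpr hy))
  have hψφ : ∀ c : C, ψ (algebraMap C Cq c) = φ c := fun c => IsLocalization.lift_eq _ c
  have hψloc : ∀ x : Cq, IsUnit (ψ x) → IsUnit x := by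
    intro x hx
    obtain ⟨⟨c, s⟩, rfl⟩ := IsLocalization.mk'_surjective q.primeCompl x
    rw [IsLocalization.lift_mk'] at hx
    have h1 : IsUnit (φ c) := isUnit_of_mul_isUnit_left hx
    have h2 : c ∉ q := fun hc => (mem_maximalIdeal _).mp hc h1
    exact (IsLocalization.AtPrime.isUnit_mk'_iff Cq q c s).mpr h2
  have hψl : IsLocalHom ψ := ⟨fun x hx => hψloc x hx⟩
  have hAC : ∀ a : A, φ (algebraMap A C a) = algebraMap A V a := by
    intro a
    apply Subtype.ext
    change algebraMap C L (algebraMap A C a) = algebraMap A L a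
    rw [← IsScalarTower.algebraMap_apply]
  have hACq : ∀ a : A, ψ (algebraMap A Cq a) = algebraMap A V a := by
    intro a
    rw [IsScalarTower.algebraMap_apply A C Cq, hψφ, hAC]
  have hlocA : IsLocalHom (algebraMap A Cq) := ⟨fun a ha => by
    have h1 : IsUnit (algebraMap A V a) := by rw [← hACq]; exact ha.map ψ
    exact (isUnit_map_iff (algebraMap A V) a).mp h1⟩
  have hnoeth : IsNoetherianRing C := IsNoetherianRing.of_finite A C
  have hnoethq : IsNoetherianRing Cq := IsLocalization.isNoetherianRing q.primeCompl Cq hnoeth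
  have hunr : Algebra.FormallyUnramified A Cq := by
    have : Algebra.FormallyUnramified C Cq := Algebra.FormallyUnramified.of_isLocalization q.primeCompl
    exact Algebra.FormallyUnramified.comp A C Cq
  have hess : Algebra.EssFiniteType A Cq := by
    have : Algebra.EssFiniteType C Cq := Algebra.EssFiniteType.of_isLocalization Cq q.primeCompl
    exact Algebra.EssFiniteType.comp A C Cq
  have hmap : (maximalIdeal A).map (algebraMap A Cq) = maximalIdeal Cq :=
    Algebra.FormallyUnramified.map_maximalIdeal
  -- the image of `Cq` in `V`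
  let D := Cq ⧸ RingHom.ker ψ
  have hDprime : (RingHom.ker ψ).IsPrime := RingHom.ker_isPrime ψ
  have hDdom : IsDomain D := inferInstance
  have hDnoeth : IsNoetherianRing D := inferInstance
  have hDloc : IsLocalRing D := .of_surjective' (Ideal.Quotient.mk _) Ideal.Quotient.mk_surjective
  let ι : D →+* L := (V.subtype).comp (Ideal.Quotient.lift (RingHom.ker ψ) ψ fun a ha => ha)
  have hι : ∀ x : Cq, ι (Ideal.Quotient.mk _ x) = ((ψ x : V) : L) := fun x => rfl
  have hιinj : Function.Injective ι := by
    rw [injective_iff_map_eq_zero]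
    intro d hd
    obtain ⟨x, rfl⟩ := Ideal.Quotient.mk_surjective d
    rw [hι] at hd
    rw [Ideal.Quotient.eq_zero_iff_mem, RingHom.mem_ker]
    exact Subtype.ext hd
  let _ : Algebra D L := ι.toAlgebra
  have hDL : ∀ d : D, algebraMap D L d = ι d := fun _ => rfl
  -- `D` is a DVR
  obtain ⟨ϖ, hϖ⟩ := IsDiscreteValuationRing.exists_irreducible A
  have hmA : maximalIdeal A = Ideal.span {ϖ} := hϖ.maximalIdeal_eq
  let mk : Cq →+* D := Ideal.Quotient.mk (RingHom.ker ψ)
  have hmk : Function.Surjective mk := Ideal.Quotient.mk_surjective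
  have hmD : maximalIdeal D = Ideal.span {mk (algebraMap A Cq ϖ)} := by
    have h1 : (maximalIdeal Cq).map mk = maximalIdeal D := by
      refine IsLocalRing.eq_maximalIdeal ?_
      refine (Ideal.map_eq_top_or_isMaximal_of_surjective mk hmk
        (maximalIdeal.isMaximal Cq)).resolve_left ?_
      intro htop
      have h2 : (1 : D) ∈ (maximalIdeal Cq).map mk := by rw [htop]; trivial
      obtain ⟨x, hx, hx1⟩ := (Ideal.mem_map_iff_of_surjective mk hmk).mp h2
      have h3 : ψ x = 1 := by
        have h4 : mk (x - 1) = 0 := by rw [map_sub, hx1, map_one, sub_self]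
        have h5 : x - 1 ∈ RingHom.ker ψ := Ideal.Quotient.eq_zero_iff_mem.mp h4
        rw [RingHom.mem_ker, map_sub, map_one, sub_eq_zero] at h5
        exact h5
      exact (mem_maximalIdeal _).mp hx (hψloc x (h3 ▸ isUnit_one))
    rw [← h1, ← hmap, hmA, Ideal.map_span, Set.image_singleton, Ideal.map_span,
      Set.image_singleton]
  have hDnf : ¬ IsField D := by
    intro hf
    have h1 : maximalIdeal D = ⊥ := IsLocalRing.isField_iff_maximalIdeal_eq.mp hf
    rw [hmD, Ideal.span_singleton_eq_bot] at h1
    have h2 : ι (mk (algebraMap A Cq ϖ)) = 0 := by rw [h1, map_zero]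
    rw [hι, hACq, hAV] at h2
    exact hϖ.ne_zero (hinj (by rw [h2, map_zero]))
  have hDvr : IsDiscreteValuationRing D :=
    ((IsDiscreteValuationRing.TFAE D hDnf).out 4 0).mp
      (show (maximalIdeal D).IsPrincipal from ⟨_, hmD⟩)
  have hfrac : IsFractionRing D L := by
    have hfs : FaithfulSMul D L := (faithfulSMul_iff_algebraMap_injective D L).mpr hιinj
    refine IsFractionRing.of_field D L fun x => ?_
    obtain ⟨c, a, ha, hx⟩ := hgen x
    refine ⟨mk (algebraMap C Cq c), mk (algebraMap A Cq a), ?_⟩
    rw [hDL, hDL, hι, hι, hψφ, hACq, hφ, hAV, ← hx]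
    rw [mul_div_cancel_right₀]
    intro h0
    exact ha (hinj (by rw [h0, map_zero]))
  have hsurj : Function.Surjective ψ := by
    intro v
    obtain ⟨d, hd⟩ := surjective_of_valuationRing (D := D) (L := L) V (fun d => by
      obtain ⟨x, rfl⟩ := hmk d
      rw [hDL, hι]
      exact (ψ x).2) (fun d hd => by
      obtain ⟨x, rfl⟩ := hmk d
      rw [hDL, hι] at hd
      exact (hψloc x ((V.valuation_eq_one_iff _).mpr hd)).map mk) (v : L) v.2
    obtain ⟨x, rfl⟩ := hmk d
    exact ⟨x, Subtype.ext hd⟩
  -- conclusion
  let f : Cq →ₐ[A] V := { ψ with commutes' := hACq }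
  have hunrV : Algebra.FormallyUnramified A V := Algebra.FormallyUnramified.of_surjective f hsurj
  have hessV : Algebra.EssFiniteType A V := Algebra.EssFiniteType.of_surjective f hsurj
  have h := Algebra.FormallyUnramified.iff_map_maximalIdeal_eq.mp hunrV
  exact ⟨h.2, h.1⟩

end K585.RamEtale
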