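import Groth.Agent.EtRam.K585.Proper
import Groth.Agent.Pi1.H383.TameGal
import Groth.Prelude.Def_PiSp

/-!
# Galois covers of order prime to the characteristic are curve-tame
-/

set_option autoImplicit false
universe u
open IsLocalRing EtRam CategoryTheory CategoryTheory.Limits AlgebraicGeometry

namespace K585.RamGalCover

section Field

variable {K M : Type u} [Field K] [Field M] [Algebra K M] [Algebra.IsAlgebraic K M]

/-- If every `K`-embedding of `M` in an algebraic closure comes from an automorphism, `M` is normal. -/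
theorem normal_of_forall (h : ∀ τ : M →ₐ[K] AlgebraicClosure M, ∃ g : M ≃ₐ[K] M,
    ∀ x, τ x = algebraMap M (AlgebraicClosure M) (g x)) : Normal K M := by
  let Ω := AlgebraicClosure M
  have h1 : Algebra.IsAlgebraic K Ω := Algebra.IsAlgebraic.trans K M Ω
  have h2 : IsAlgClosure K Ω := ⟨inferInstance, h1⟩
  have h3 : Normal K Ω := IsAlgClosure.normal K Ω
  let s : M →ₐ[K] Ω := IsScalarTower.toAlgHom K M Ω
  let E : IntermediateField K Ω := s.fieldRange
  let e : M ≃ₐ[K] E := s.equivFieldRange
  have h4 : Normal K E := by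
    rw [IntermediateField.normal_iff_forall_fieldRange_le]
    intro σ
    rintro _ ⟨y, rfl⟩
    obtain ⟨g, hg⟩ := h (σ.comp (e : M →ₐ[K] E))
    have h5 := hg (e.symm y)
    have h6 : (σ.comp (e : M →ₐ[K] E)) (e.symm y) = σ y := by
      change σ (e (e.symm y)) = σ y
      rw [AlgEquiv.apply_symm_apply]
    rw [h6] at h5
    change σ y ∈ E
    rw [h5]
    exact ⟨_, rfl⟩
  exact Normal.of_algEquiv e.symm

/-- Abstract form: a group acting through a relation on a finite separable field extension, transitive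
on embeddings. -/
theorem isGalois_and_card_dvd_abstract {K M : Type u} [Field K] [Field M] [Algebra K M]
    [FiniteDimensional K M] [Algebra.IsSeparable K M] {G : Type u} [Group G]
    (R : G → (M →+* M) → Prop)
    (hu : ∀ σ g g', R σ g → R σ g' → g = g')
    (hc : ∀ σ τ g g', R σ g → R τ g' → R (σ * τ) (g'.comp g)) (D : Subgroup G)
    (hD : ∀ σ ∈ D, ∃ g : M →+* M, R σ g ∧ g.comp (algebraMap K M) = algebraMap K M)
    (key : ∀ τ : M →+* AlgebraicClosure M, τ.comp (algebraMap K M) =
      (algebraMap M (AlgebraicClosure M)).comp (algebraMap K M) →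
      ∃ σ : G, σ ∈ D ∧ ∃ g : M →+* M, R σ g ∧ g.comp (algebraMap K M) = algebraMap K M ∧
        τ = (algebraMap M (AlgebraicClosure M)).comp g) :
    IsGalois K M ∧ Nat.card (M ≃ₐ[K] M) ∣ Nat.card G := by
  have hnorm : Normal K M := by
    refine normal_of_forall fun τ => ?_
    obtain ⟨σ, -, g, -, h3, h4⟩ := key τ.toRingHom (by
      ext x
      exact (τ.commutes x).trans (IsScalarTower.algebraMap_apply K M (AlgebraicClosure M) x))
    let g' : M →ₐ[K] M := { g with commutes' := fun x => DFunLike.congr_fun h3 x }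
    refine ⟨AlgEquiv.ofBijective g' (Algebra.IsAlgebraic.algHom_bijective g'), fun x => ?_⟩
    exact DFunLike.congr_fun h4 x
  refine ⟨⟨⟩, ?_⟩
  have ex : ∀ σ : D, ∃ g : M ≃ₐ[K] M, R σ.1 (g : M →+* M) := by
    intro σ
    obtain ⟨g, hg, hgK⟩ := hD σ.1 σ.2
    let g' : M →ₐ[K] M := { g with commutes' := fun x => DFunLike.congr_fun hgK x }
    exact ⟨AlgEquiv.ofBijective g' (Algebra.IsAlgebraic.algHom_bijective g'), hg⟩
  choose φ hφ using ex
  have hmul : ∀ σ τ : D, φ (σ * τ) = φ τ * φ σ := by
    intro σ τ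
    have h1 := hc _ _ _ _ (hφ σ) (hφ τ)
    have h2 := hu _ _ _ (hφ (σ * τ)) h1
    ext x
    exact DFunLike.congr_fun h2 x
  let Φ : D →* (M ≃ₐ[K] M)ᵐᵒᵖ := MonoidHom.mk' (fun σ => MulOpposite.op (φ σ)) fun σ τ => by
    rw [hmul, MulOpposite.op_mul]
  have hsurj : Function.Surjective Φ := by
    intro g
    obtain ⟨σ, hσ, g', h2, h3, h4⟩ := key ((algebraMap M (AlgebraicClosure M)).comp
      ((MulOpposite.unop g : M ≃ₐ[K] M) : M →+* M)) (by
        ext x
        change algebraMap M (AlgebraicClosure M)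
          ((MulOpposite.unop g : M ≃ₐ[K] M) (algebraMap K M x)) = _
        rw [AlgEquiv.commutes]
        rfl)
    refine ⟨⟨σ, hσ⟩, ?_⟩
    apply MulOpposite.unop_injective
    change φ ⟨σ, hσ⟩ = MulOpposite.unop g
    have h5 := hu _ _ _ (hφ ⟨σ, hσ⟩) h2
    ext x
    have h6 : φ ⟨σ, hσ⟩ x = g' x := DFunLike.congr_fun h5 x
    rw [h6]
    exact ((algebraMap M (AlgebraicClosure M)).injective (DFunLike.congr_fun h4 x)).symm
  have h1 := Subgroup.card_dvd_of_surjective Φ hsurj
  rw [Nat.card_congr (MulOpposite.opEquiv (α := M ≃ₐ[K] M)).symm] at h1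
  exact h1.trans (Subgroup.card_subgroup_dvd_card _)

end Field

section Cover

variable {X Z : Scheme.{u}} (h : Z ⟶ X) (z : Z)

/-- `g : κ(z) → κ(z)` is induced by the endomorphism `σ` of `Z`. -/
def Ind (z : Z) (σ : Z ⟶ Z) (g : Z.residueField z →+* Z.residueField z) : Prop :=
  Spec.map (CommRingCat.ofHom g) ≫ Z.fromSpecResidueField z = Z.fromSpecResidueField z ≫ σ

theorem Ind.unique {σ : Z ⟶ Z} {g g' : Z.residueField z →+* Z.residueField z}
    (h1 : Ind z σ g) (h2 : Ind z σ g') : g = g' := by
  have h3 : Spec.map (CommRingCat.ofHom g) = Spec.map (CommRingCat.ofHom g') := by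
    rw [← cancel_mono (Z.fromSpecResidueField z)]
    exact h1.trans h2.symm
  exact congrArg CommRingCat.Hom.hom (Spec.map_injective h3)

theorem Ind.comp {σ τ : Z ⟶ Z} {g g' : Z.residueField z →+* Z.residueField z}
    (h1 : Ind z σ g) (h2 : Ind z τ g') : Ind z (τ ≫ σ) (g'.comp g) := by
  unfold Ind at *
  rw [CommRingCat.ofHom_comp, Spec.map_comp, Category.assoc, h1, ← Category.assoc, h2,
    Category.assoc]

theorem exists_ind (σ : Z ⟶ Z) (hσ : σ ≫ h = h) (hz : σ z = z) :
    ∃ g : Z.residueField z →+* Z.residueField z, Ind z σ g ∧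
      g.comp (h.residueFieldMap z).hom = (h.residueFieldMap z).hom := by
  obtain ⟨φ, hφ⟩ := RamProper.exists_factor (Z.residueField z) (Z.fromSpecResidueField z ≫ σ) z (by
    rw [Scheme.Hom.comp_apply, Scheme.fromSpecResidueField_apply, hz])
  refine ⟨φ.hom, hφ, ?_⟩
  have h1 : Spec.map φ ≫ Spec.map (h.residueFieldMap z) = Spec.map (h.residueFieldMap z) := by
    rw [← cancel_mono (X.fromSpecResidueField (h z)), Category.assoc,
      Scheme.Hom.SpecMap_residueFieldMap_fromSpecResidueField]
    have h2 := congrArg (· ≫ h) hφ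
    simp only [Category.assoc] at h2
    refine h2.trans ?_
    rw [hσ]
  have h3 : h.residueFieldMap z ≫ φ = h.residueFieldMap z := by
    apply Spec.map_injective
    refine Eq.trans ?_ h1
    exact Spec.map_comp _ _
  exact congrArg CommRingCat.Hom.hom h3

/-- Transitivity on the geometric fibre over `h z` yields automorphisms of the residue field. -/
theorem exists_ind_of_trans (Ω : Type u) [Field Ω] (s : Z.residueField z →+* Ω)
    (τ : Z.residueField z →+* Ω) (σ : Z ⟶ Z) (hσ : σ ≫ h = h)
    (hst : (Spec.map (CommRingCat.ofHom s) ≫ Z.fromSpecResidueField z) ≫ σ =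
      Spec.map (CommRingCat.ofHom τ) ≫ Z.fromSpecResidueField z) :
    σ z = z ∧ ∃ g : Z.residueField z →+* Z.residueField z, Ind z σ g ∧
      g.comp (h.residueFieldMap z).hom = (h.residueFieldMap z).hom ∧ τ = s.comp g := by
  have hz : σ z = z := by
    have h1 := congr($(hst) (IsLocalRing.closedPoint Ω))
    rw [Scheme.Hom.comp_apply, Scheme.Hom.comp_apply, Scheme.Hom.comp_apply,
      Scheme.fromSpecResidueField_apply, Scheme.fromSpecResidueField_apply] at h1
    exact h1
  obtain ⟨g, hg, hgK⟩ := exists_ind h z σ hσ hz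
  refine ⟨hz, g, hg, hgK, ?_⟩
  have h2 : Spec.map (CommRingCat.ofHom τ) = Spec.map (CommRingCat.ofHom (s.comp g)) := by
    rw [← cancel_mono (Z.fromSpecResidueField z), ← hst, CommRingCat.ofHom_comp, Spec.map_comp,
      Category.assoc, Category.assoc]
    congr 1
    exact hg.symm
  exact congrArg CommRingCat.Hom.hom (Spec.map_injective h2)

/-- The geometric form of the tameness theorem. -/
theorem isTamelyRamified_of_trans [IsFinite h] [Etale h] {G : Type u} [Group G] (ρ : G → (Z ⟶ Z))
    (hρ1 : ρ 1 = 𝟙 Z) (hρm : ∀ σ τ, ρ (σ * τ) = ρ τ ≫ ρ σ) (hρh : ∀ σ, ρ σ ≫ h = h)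
    (htr : ∀ (Ω : Type u) [Field Ω] [IsAlgClosed Ω] (s t : Spec (CommRingCat.of Ω) ⟶ Z),
      s ≫ h = t ≫ h → ∃ σ, s ≫ ρ σ = t)
    (A : Type u) [CommRing A] [IsDomain A] [IsDiscreteValuationRing A]
    [Algebra A (X.residueField (h z))] [IsFractionRing A (X.residueField (h z))]
    (hp : ∀ p : ℕ, p.Prime → CharP (ResidueField A) p → (Nat.card G).Coprime p) :
    IsTamelyRamified A ((h.residueFieldMap z).hom.comp (algebraMap A (X.residueField (h z)))) := by
  let _ : Algebra (X.residueField (h z)) (Z.residueField z) := (h.residueFieldMap z).hom.toAlgebra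
  have hsep : Algebra.IsSeparable (X.residueField (h z)) (Z.residueField z) := inferInstance
  have hfin : FiniteDimensional (X.residueField (h z)) (Z.residueField z) :=
    RamProper.finiteDimensional_residueField h z
  let D : Subgroup G :=
    { carrier := {σ | ρ σ z = z}
      one_mem' := by
        change ρ 1 z = z
        rw [hρ1]; rfl
      mul_mem' := by
        intro σ τ hσ hτ
        change ρ (σ * τ) z = z
        rw [hρm, Scheme.Hom.comp_apply, show ρ τ z = z from hτ]
        exact hσ
      inv_mem' := by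
        intro σ hσ
        change ρ σ⁻¹ z = z
        have h1 : ρ (σ⁻¹ * σ) z = z := by rw [inv_mul_cancel, hρ1]; rfl
        rw [hρm, Scheme.Hom.comp_apply, show ρ σ z = z from hσ] at h1
        exact h1 }
  have hgal := isGalois_and_card_dvd_abstract (K := X.residueField (h z)) (M := Z.residueField z)
    (G := G) (fun σ g => Ind z (ρ σ) g) (fun σ g g' h1 h2 => Ind.unique z h1 h2)
    (fun σ τ g g' h1 h2 => by
      change Ind z (ρ (σ * τ)) _
      rw [hρm]
      exact Ind.comp z h1 h2) D
    (fun σ hσ => exists_ind h z (ρ σ) (hρh σ) hσ)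
    (fun τ hτ => by
      let s : Z.residueField z →+* AlgebraicClosure (Z.residueField z) := algebraMap _ _
      have hξ : (Spec.map (CommRingCat.ofHom s) ≫ Z.fromSpecResidueField z) ≫ h =
          (Spec.map (CommRingCat.ofHom τ) ≫ Z.fromSpecResidueField z) ≫ h := by
        have h1 : h.residueFieldMap z ≫ CommRingCat.ofHom τ =
            h.residueFieldMap z ≫ CommRingCat.ofHom s := by
          ext x
          exact DFunLike.congr_fun hτ x
        have h2 : ∀ r : Z.residueField z →+* AlgebraicClosure (Z.residueField z),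
            (Spec.map (CommRingCat.ofHom r) ≫ Z.fromSpecResidueField z) ≫ h =
              Spec.map (h.residueFieldMap z ≫ CommRingCat.ofHom r) ≫
                X.fromSpecResidueField (h z) := by
          intro r
          rw [Category.assoc, ← Scheme.Hom.SpecMap_residueFieldMap_fromSpecResidueField]
          exact (Category.assoc _ _ _).symm.trans
            (congrArg (· ≫ X.fromSpecResidueField (h z)) (Spec.map_comp _ _).symm)
        rw [h2, h2, h1]
      obtain ⟨σ, hσ⟩ := htr _ _ _ hξ
      obtain ⟨h1, g, h2, h3, h4⟩ := exists_ind_of_trans h z _ s τ (ρ σ) (hρh σ) hσ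
      exact ⟨σ, h1, g, h2, h3, h4⟩)
  have hgal1 := hgal.1
  exact Groth.Agent.Pi1.H383.TameGal.isTamelyRamified_of_isGalois A (K := X.residueField (h z))
    (M := Z.residueField z) (fun p hp1 hp2 => (hp p hp1 hp2).coprime_dvd_left hgal.2)

end Cover

end K585.RamGalCover
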