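import Groth.Agent.S1987
import Groth.Agent.S1989
import Groth.Agent.Sga1.AbhKum
import Mathlib.FieldTheory.SeparableClosure

/-!
# Kummer extensions of a discrete valuation ring and tame ramification
-/

set_option autoImplicit false

universe u

open Polynomial IsLocalRing Groth.Agent.Sga1.AbhKum Groth.Agent.Etalg.RamBasic
  Groth.Agent.Etalg.RamTower

namespace K585.Kummer

section dvr

variable {A : Type u} [CommRing A] [IsDomain A] [IsDiscreteValuationRing A] {π : A} {n : ℕ}

omit [IsDomain A] [IsDiscreteValuationRing A] in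
theorem monic (hn : 1 ≤ n) : (X ^ n - C π : A[X]).Monic := monic_X_pow_sub_C π (by omega)

theorem injective (hn : 1 ≤ n) : Function.Injective (algebraMap A (AdjoinRoot (X ^ n - C π : A[X]))) := by
  rw [AdjoinRoot.algebraMap_eq]
  apply AdjoinRoot.of.injective_of_degree_ne_zero
  rw [degree_eq_natDegree (monic hn).ne_zero, natDegree_X_pow_sub_C]
  intro h
  have : n = 0 := by exact_mod_cast h
  omega

/-- `A[z]/(z^n - π)` is a discrete valuation ring with uniformizer `z` for every `n ≥ 1`. -/
theorem dvr (hπ : Irreducible π) (hn : 1 ≤ n) :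
    ∃ (_ : IsDomain (AdjoinRoot (X ^ n - C π : A[X])))
      (_ : IsDiscreteValuationRing (AdjoinRoot (X ^ n - C π : A[X]))),
      maximalIdeal (AdjoinRoot (X ^ n - C π : A[X])) = Ideal.span {AdjoinRoot.root (X ^ n - C π : A[X])} := by
  have hinj := injective (π := π) hn
  have hnt : Nontrivial (AdjoinRoot (X ^ n - C π : A[X])) := hinj.nontrivial
  have hfin : Module.Finite A (AdjoinRoot (X ^ n - C π : A[X])) := (monic (π := π) hn).finite_adjoinRoot
  have hroot : (AdjoinRoot.root (X ^ n - C π : A[X])) ^ n = algebraMap A _ π :=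
    Groth.Agent.S1987.root_pow
  have hmemA : ∀ a ∈ maximalIdeal A, algebraMap A (AdjoinRoot (X ^ n - C π : A[X])) a ∈
      Ideal.span {AdjoinRoot.root (X ^ n - C π : A[X])} := by
    intro a ha
    rw [hπ.maximalIdeal_eq, Ideal.mem_span_singleton] at ha
    obtain ⟨c, rfl⟩ := ha
    rw [map_mul, ← hroot, Ideal.mem_span_singleton]
    exact Dvd.dvd.mul_right (dvd_pow_self _ (by omega)) _
  have hmap : (maximalIdeal A).map (algebraMap A (AdjoinRoot (X ^ n - C π : A[X]))) =
      Ideal.span {AdjoinRoot.root (X ^ n - C π : A[X])} ^ n := by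
    rw [hπ.maximalIdeal_eq, Ideal.map_span, Set.image_singleton, Ideal.span_singleton_pow, hroot]
  obtain ⟨hloc, hmax⟩ := Groth.Agent.Etalg.DVRExt.isLocal_of_totallyRamified A
    (AdjoinRoot (X ^ n - C π : A[X])) (AdjoinRoot.root _) Groth.Agent.S1987.exists_eq_add hmemA
    ⟨n, by rw [hmap, Ideal.span_singleton_pow]; exact Ideal.mem_span_singleton_self _⟩
  have hnoeth : IsNoetherianRing (AdjoinRoot (X ^ n - C π : A[X])) :=
    IsNoetherianRing.of_finite A _
  have hrnil : ¬ IsNilpotent (AdjoinRoot.root (X ^ n - C π : A[X])) := by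
    rintro ⟨k, hk⟩
    have h1 : algebraMap A (AdjoinRoot (X ^ n - C π : A[X])) (π ^ k) = 0 := by
      rw [map_pow, ← hroot, ← pow_mul, mul_comm, pow_mul, hk, zero_pow (by omega)]
    exact pow_ne_zero k hπ.ne_zero (hinj (by rw [h1, map_zero]))
  obtain ⟨h1, hdvr⟩ := Groth.Agent.Etalg.DVRExt.isDVR_of_principal
    (AdjoinRoot (X ^ n - C π : A[X])) _ hmax hrnil
  exact ⟨h1, hdvr, hmax⟩

/-- the kernel of a ring map from `A[z]/(z^n-π)` to a domain, injective on `A`, is zero. -/
theorem injective_of_comp (hπ : Irreducible π) (hn : 1 ≤ n) {N : Type u} [CommRing N] [IsDomain N]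
    (f : AdjoinRoot (X ^ n - C π : A[X]) →+* N)
    (hf : Function.Injective (f.comp (AdjoinRoot.of (X ^ n - C π : A[X])))) : Function.Injective f := by
  obtain ⟨_, _, -⟩ := dvr hπ hn
  have hfin : Module.Finite A (AdjoinRoot (X ^ n - C π : A[X])) := (monic (π := π) hn).finite_adjoinRoot
  rw [injective_iff_map_eq_zero]
  have hker : RingHom.ker f = ⊥ := by
    have hp : (RingHom.ker f).IsPrime := RingHom.ker_isPrime f
    refine Ideal.eq_bot_of_comap_eq_bot (R := A) ?_
    rw [AdjoinRoot.algebraMap_eq, RingHom.comap_ker]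
    exact (RingHom.injective_iff_ker_eq_bot _).mp hf
  intro a ha
  have : a ∈ RingHom.ker f := ha
  rwa [hker, Ideal.mem_bot] at this

end dvr

/-- adjoining an `n`-th root -/
theorem exists_root_ext (L : Type u) [Field L] (c : L) (hc : c ≠ 0) (n : ℕ) (hnL : (n : L) ≠ 0) :
    ∃ (N : Type u) (_ : Field N) (_ : Algebra L N) (ρ : N), ρ ^ n = algebraMap L N c ∧
      FiniteDimensional L N ∧ Algebra.IsSeparable L N ∧ Algebra.adjoin L {ρ} = ⊤ := by
  have hn0 : n ≠ 0 := by
    rintro rfl
    simp at hnL
  obtain ⟨g, hirr, hgp⟩ : ∃ g : L[X], Irreducible g ∧ g ∣ (X ^ n - C c : L[X]) :=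
    ⟨factor (X ^ n - C c : L[X]), irreducible_factor _,
      factor_dvd_of_natDegree_ne_zero (by rw [natDegree_X_pow_sub_C]; exact hn0)⟩
  have : Fact (Irreducible g) := ⟨hirr⟩
  have hρ : (AdjoinRoot.root g) ^ n = algebraMap L (AdjoinRoot g) c := by
    obtain ⟨q, hq⟩ := hgp
    have h1 : eval₂ (algebraMap L (AdjoinRoot g)) (AdjoinRoot.root g) (X ^ n - C c : L[X]) = 0 := by
      rw [hq, eval₂_mul]
      have : eval₂ (algebraMap L (AdjoinRoot g)) (AdjoinRoot.root g) g = 0 := AdjoinRoot.eval₂_root _
      rw [this, zero_mul]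
    rw [eval₂_sub, eval₂_X_pow, eval₂_C] at h1
    exact sub_eq_zero.mp h1
  have hfinLN : FiniteDimensional L (AdjoinRoot g) := (AdjoinRoot.powerBasis hirr.ne_zero).finite
  have hsep : g.Separable := Separable.of_dvd (separable_X_pow_sub_C _ hnL hc) hgp
  have hρsep : IsSeparable L (AdjoinRoot.root g) := by
    refine hsep.of_dvd (minpoly.dvd L _ ?_)
    rw [aeval_def]
    exact AdjoinRoot.eval₂_root _
  have hgenN : Algebra.adjoin L {AdjoinRoot.root g} = ⊤ := AdjoinRoot.adjoinRoot_eq_top
  refine ⟨AdjoinRoot g, inferInstance, inferInstance, AdjoinRoot.root g, hρ, hfinLN, ?_, hgenN⟩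
  have h2 : Algebra.IsSeparable L (IntermediateField.adjoin L {AdjoinRoot.root g}) :=
    (IntermediateField.isSeparable_adjoin_simple_iff_isSeparable _ _).mpr hρsep
  have h3 : IntermediateField.adjoin L {AdjoinRoot.root g} = ⊤ := by
    rw [← top_le_iff, ← IntermediateField.toSubalgebra_le_toSubalgebra, IntermediateField.top_toSubalgebra,
      ← hgenN]
    exact IntermediateField.algebra_adjoin_le_adjoin L _
  rw [h3] at h2
  exact Algebra.IsSeparable.of_algHom L _ (IntermediateField.topEquiv (F := L) (E := AdjoinRoot g)).symm.toAlgHom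

section field

variable {A K L : Type u} [CommRing A] [IsDomain A]
    [IsDiscreteValuationRing A] [Field K] [Algebra A K] [IsFractionRing A K] [Field L] [Algebra K L]
    [Algebra A L] [IsScalarTower A K L] [FiniteDimensional K L] [Algebra.IsSeparable K L]
    {π : A} (hπ : Irreducible π)

include hπ in
/-- If all ramification indices of `L` over `A` divide `n`, prime to the residue characteristic, and
the residue extensions are separable, then adjoining an `n`-th root of a uniformizer makes
`L` unramified. -/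
theorem exists_ext {n : ℕ} (hn : (n : A) ∉ maximalIdeal A) (ht : TameDvd A (algebraMap A L) n) :
    ∃ (L' : Type u) (_ : Field L') (_ : Algebra K L')
          (_ : Algebra (AdjoinRoot (X ^ n - C π : A[X])) L') (_ : L →ₐ[K] L'),
          FiniteDimensional K L' ∧ Algebra.IsSeparable K L' ∧
          (algebraMap (AdjoinRoot (X ^ n - C π : A[X])) L').comp (AdjoinRoot.of (X ^ n - C π)) =
            (algebraMap K L').comp (algebraMap A K) ∧
          ∀ [IsLocalRing (AdjoinRoot (X ^ n - C π : A[X]))],
            EtRam.IsUnramifiedExt (AdjoinRoot (X ^ n - C π : A[X]))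
              (algebraMap (AdjoinRoot (X ^ n - C π : A[X])) L') := by
  have hn0 : n ≠ 0 := by
    rintro rfl
    simp at hn
  have hinjAK : Function.Injective (algebraMap A K) := IsFractionRing.injective A K
  have hinjAL : Function.Injective (algebraMap A L) := by
    rw [IsScalarTower.algebraMap_eq A K L]
    exact (algebraMap K L).injective.comp hinjAK
  have hnL : (n : L) ≠ 0 := by
    intro h
    apply hn
    have : (n : A) = 0 := hinjAL (by rw [map_natCast, h, map_zero])
    rw [this]; exact zero_mem _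
  obtain ⟨N, _, _, ρ, hρ, hfinLN, hsepLN, hgenN⟩ := exists_root_ext L (algebraMap A L π)
    ((map_ne_zero_iff _ hinjAL).mpr hπ.ne_zero) n hnL
  let algKN : Algebra K N := ((algebraMap L N).comp (algebraMap K L)).toAlgebra
  have : IsScalarTower K L N := IsScalarTower.of_algebraMap_eq' rfl
  have hfinKN : FiniteDimensional K N := FiniteDimensional.trans K L N
  have hsepKN : Algebra.IsSeparable K N := Algebra.IsSeparable.trans K L N
  let f : AdjoinRoot (X ^ n - C π : A[X]) →+* N :=
    AdjoinRoot.lift ((algebraMap L N).comp (algebraMap A L)) ρ (by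
      rw [eval₂_sub, eval₂_X_pow, eval₂_C, hρ, RingHom.comp_apply, sub_self])
  have hf1 : f.comp (AdjoinRoot.of (X ^ n - C π : A[X])) = (algebraMap L N).comp (algebraMap A L) :=
    AdjoinRoot.lift_comp_of _
  have hf2 : f (AdjoinRoot.root _) = ρ := AdjoinRoot.lift_root _
  let algf : Algebra (AdjoinRoot (X ^ n - C π : A[X])) N := f.toAlgebra
  refine ⟨N, inferInstance, algKN, algf, IsScalarTower.toAlgHom K L N, hfinKN, hsepKN, ?_, ?_⟩
  · change f.comp _ = _
    rw [hf1, IsScalarTower.algebraMap_eq K L N, RingHom.comp_assoc, ← IsScalarTower.algebraMap_eq A K L]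
  · intro hloc
    obtain ⟨hd, hdvr, hmax⟩ := dvr hπ (n := n) (by omega)
    have hfinj : Function.Injective f := injective_of_comp hπ (by omega) f (by
      rw [hf1]
      exact (algebraMap L N).injective.comp hinjAL)
    let algAN : Algebra A N := ((algebraMap L N).comp (algebraMap A L)).toAlgebra
    have h1 : IsScalarTower A L N := IsScalarTower.of_algebraMap_eq' rfl
    have h2 : IsScalarTower A (AdjoinRoot (X ^ n - C π : A[X])) N :=
      IsScalarTower.of_algebraMap_eq' hf1.symm
    have h3 : FaithfulSMul (AdjoinRoot (X ^ n - C π : A[X])) N :=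
      (faithfulSMul_iff_algebraMap_injective _ _).mpr hfinj
    refine Groth.Agent.Sga1.AbhKum.isUnramifiedExt A K L (AdjoinRoot (X ^ n - C π : A[X])) hmax hπ hn
      Groth.Agent.S1987.root_pow N ?_ ht
    change Algebra.adjoin L {f _} = ⊤
    rw [hf2, hgenN]

theorem natCast_residue_ne_zero_iff {A : Type u} [CommRing A] [IsLocalRing A] (n : ℕ) :
    (n : ResidueField A) ≠ 0 ↔ (n : A) ∉ maximalIdeal A := by
  rw [← map_natCast (residue A), Ne, residue_eq_zero_iff]

theorem natCast_ne_zero_of_forall_prime {k : Type u} [Field k] {n : ℕ} (hn : n ≠ 0)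
    (h : ∀ p : ℕ, p.Prime → CharP k p → ¬ p ∣ n) : (n : k) ≠ 0 := by
  intro h0
  obtain ⟨p, hp⟩ := CharP.exists k
  rw [CharP.cast_eq_zero_iff k p] at h0
  rcases CharP.char_is_prime_or_zero k p with h1 | h1
  · exact h p h1 hp h0
  · subst h1
    exact hn (Nat.eq_zero_of_zero_dvd h0)

variable (K) in
include K in
theorem exists_tameDvd (h : EtRam.IsTamelyRamified A (algebraMap A L)) :
    ∃ e₀ : ℕ, 0 < e₀ ∧ (e₀ : ResidueField A) ≠ 0 ∧
      ∀ d : ℕ, TameDvd A (algebraMap A L) (d * e₀) := by
  classical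
  set S : Finset ℕ := (Finset.Icc 1 (Module.finrank K L)).filter
    (fun k : ℕ => ((k : ℕ) : ResidueField A) ≠ 0) with hS
  have hne : ((∏ k ∈ S, k : ℕ) : ResidueField A) ≠ 0 := by
    rw [Nat.cast_prod, Finset.prod_ne_zero_iff]
    intro k hk
    exact (Finset.mem_filter.mp hk).2
  refine ⟨∏ k ∈ S, k, ?_, hne, fun d => ?_⟩
  · exact Nat.pos_of_ne_zero fun h0 => hne (by rw [h0, Nat.cast_zero])
  · intro V hV
    let _ : Algebra A V := (RingHom.codRestrict (algebraMap A L) V hV.1).toAlgebra
    intro hloc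
    obtain ⟨h1, h2⟩ := h V hV
    refine ⟨h1, ?_⟩
    obtain ⟨h3, h4⟩ := Groth.Agent.Sga1.AbhVal2.ramificationIdx'_le A K L V hV
    refine Dvd.dvd.mul_left (Finset.dvd_prod_of_mem (fun k => k) ?_) d
    rw [hS, Finset.mem_filter, Finset.mem_Icc]
    refine ⟨⟨h3, h4⟩, ?_⟩
    exact natCast_ne_zero_of_forall_prime (Nat.one_le_iff_ne_zero.mp h3) h2

include hπ in
theorem isTamelyRamified_of_ext {e : ℕ} (he : 0 < e) (he0 : (e : ResidueField A) ≠ 0) 
    (L' : Type u) [Field L'] [Algebra K L'] [Algebra (AdjoinRoot (X ^ e - C π : A[X])) L']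
    [FiniteDimensional K L'] [Algebra.IsSeparable K L']
    (hc : (algebraMap (AdjoinRoot (X ^ e - C π : A[X])) L').comp (AdjoinRoot.of (X ^ e - C π)) =
            (algebraMap K L').comp (algebraMap A K))
    (h : ∀ [IsLocalRing (AdjoinRoot (X ^ e - C π : A[X]))],
            EtRam.IsUnramifiedExt (AdjoinRoot (X ^ e - C π : A[X]))
              (algebraMap (AdjoinRoot (X ^ e - C π : A[X])) L')) :
    EtRam.IsTamelyRamified A ((algebraMap K L').comp (algebraMap A K)) := by
  obtain ⟨hd, hdvr, hmax⟩ := dvr hπ (n := e) (by omega)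
  have hinjAK : Function.Injective (algebraMap A K) := IsFractionRing.injective A K
  have hfinj : Function.Injective (algebraMap (AdjoinRoot (X ^ e - C π : A[X])) L') :=
    injective_of_comp hπ (by omega) _ (by
      rw [hc]
      exact (algebraMap K L').injective.comp hinjAK)
  have hinj1 : Function.Injective (algebraMap A (AdjoinRoot (X ^ e - C π : A[X]))) := injective (by omega)
  have hfin : Module.Finite A (AdjoinRoot (X ^ e - C π : A[X])) := (monic (π := π) (by omega)).finite_adjoinRoot
  have hroot : (AdjoinRoot.root (X ^ e - C π : A[X])) ^ e = algebraMap A _ π :=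
    Groth.Agent.S1987.root_pow
  intro W hW
  let _ : Algebra A W := (RingHom.codRestrict ((algebraMap K L').comp (algebraMap A K)) W hW.1).toAlgebra
  intro hlocAW
  have hmem : ∀ r : AdjoinRoot (X ^ e - C π : A[X]), algebraMap _ L' r ∈ W := by
    intro r
    apply Groth.Agent.Etalg.DVRExt.mem_of_isIntegralElem W _ hW.1
    obtain ⟨p, hp, hpr⟩ := Algebra.IsIntegral.isIntegral (R := A) r
    refine ⟨p, hp, ?_⟩
    rw [← hc, ← AdjoinRoot.algebraMap_eq, ← hom_eval₂, hpr, map_zero]
  have hdom : EtRam.Dominates (AdjoinRoot (X ^ e - C π : A[X]))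
      (algebraMap (AdjoinRoot (X ^ e - C π : A[X])) L') W := by
    refine ⟨hmem, fun r hr => ?_⟩
    rw [hmax, Ideal.mem_span_singleton] at hr
    obtain ⟨c, rfl⟩ := hr
    have h2 : W.valuation (algebraMap _ L' (AdjoinRoot.root (X ^ e - C π : A[X]))) < 1 := by
      by_contra hcon
      rw [not_lt] at hcon
      have h3 := hW.2 π (by rw [hπ.maximalIdeal_eq]; exact Ideal.mem_span_singleton_self _)
      rw [← hc, RingHom.comp_apply, ← AdjoinRoot.algebraMap_eq, ← hroot, map_pow, map_pow] at h3
      exact absurd h3 (not_lt.mpr (one_le_pow₀ hcon))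
    rw [map_mul, map_mul]
    have h4 : W.valuation (algebraMap _ L' c) ≤ 1 := (W.valuation_le_one_iff _).mpr (hmem c)
    exact mul_lt_one_of_lt_of_le h2 h4
  have hWdvr : IsDiscreteValuationRing W :=
    Groth.Agent.Etalg.RamDVR2.isDVR_of_dominates (A := A) (K := K) hW
  let algW : Algebra (AdjoinRoot (X ^ e - C π : A[X])) W :=
    (RingHom.codRestrict (algebraMap (AdjoinRoot (X ^ e - C π : A[X])) L') W hdom.1).toAlgebra
  have hlW : IsLocalHom (algebraMap (AdjoinRoot (X ^ e - C π : A[X])) W) := Dominates.isLocalHom hdom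
  obtain ⟨h5, h6⟩ := h W hdom
  have htw : IsScalarTower A (AdjoinRoot (X ^ e - C π : A[X])) W := IsScalarTower.of_algebraMap_eq fun a =>
      Subtype.ext (RingHom.congr_fun hc a).symm
  have hmap : (maximalIdeal A).map (algebraMap A (AdjoinRoot (X ^ e - C π : A[X]))) =
      maximalIdeal (AdjoinRoot (X ^ e - C π : A[X])) ^ e := by
    rw [hmax, hπ.maximalIdeal_eq, Ideal.map_span, Set.image_singleton, Ideal.span_singleton_pow, hroot]
  have hlA : IsLocalHom (algebraMap A (AdjoinRoot (X ^ e - C π : A[X]))) := by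
    refine ((local_hom_TFAE _).out 0 2).mpr ?_
    rw [hmap]
    exact Ideal.pow_le_self (by omega)
  have hidx : Ideal.ramificationIdx' (maximalIdeal A) (maximalIdeal (AdjoinRoot (X ^ e - C π : A[X]))) = e :=
    (ramificationIdx'_eq_iff hinj1 e).mpr hmap
  have hinj2 : Function.Injective (algebraMap (AdjoinRoot (X ^ e - C π : A[X])) W) := fun a b hab =>
    hfinj (congrArg Subtype.val hab)
  refine ⟨?_, fun p hp hchar hdvd => ?_⟩
  · have hsur : Function.Surjective (algebraMap (ResidueField A)
      (ResidueField (AdjoinRoot (X ^ e - C π : A[X])))) := by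
      intro x
      obtain ⟨y, rfl⟩ := IsLocalRing.residue_surjective x
      obtain ⟨a, r, har⟩ := Groth.Agent.S1987.exists_eq_add y
      refine ⟨residue A a, ?_⟩
      rw [ResidueField.algebraMap_residue, har, map_add, map_mul]
      have : residue _ (AdjoinRoot.root (X ^ e - C π : A[X])) = 0 := by
        rw [residue_eq_zero_iff, hmax]
        exact Ideal.mem_span_singleton_self _
      rw [this, zero_mul, add_zero]
    have : Algebra.IsSeparable (ResidueField A) (ResidueField (AdjoinRoot (X ^ e - C π : A[X]))) := by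
      refine ⟨fun x => ?_⟩
      obtain ⟨a, rfl⟩ := hsur x
      exact isSeparable_algebraMap a
    exact Algebra.IsSeparable.trans _ (ResidueField (AdjoinRoot (X ^ e - C π : A[X]))) _
  · rw [ramificationIdx'_tower (B := AdjoinRoot (X ^ e - C π : A[X])) hinj1 hinj2, hidx,
      (isWeaklyUnramified_iff hinj2).mp h5, mul_one] at hdvd
    exact he0 ((CharP.cast_eq_zero_iff _ p e).mpr hdvd)

end field

end K585.Kummer
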