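import Groth.Agent.EtRam.K585.Etale
import Groth.Agent.QFin.K585.Basic
import Groth.Agent.Etalg.RamCrit
import Mathlib.AlgebraicGeometry.ValuativeCriterion
import Mathlib.AlgebraicGeometry.Morphisms.Etale
import Mathlib.AlgebraicGeometry.Fiber

/-!
# Finite étale covers of a proper scheme are curve-tame
-/

set_option autoImplicit false
universe u
open IsLocalRing EtRam CategoryTheory CategoryTheory.Limits AlgebraicGeometry

namespace K585.RamProper

/-- Unramified implies tamely ramified. -/
theorem isTamelyRamified_of_isUnramifiedExt (A : Type u) {K L : Type u} [CommRing A] [IsDomain A]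
    [IsDiscreteValuationRing A] [Field K] [Algebra A K] [IsFractionRing A K] [Field L] [Algebra K L]
    [Algebra A L] [IsScalarTower A K L] [FiniteDimensional K L] [Algebra.IsSeparable K L]
    (h : IsUnramifiedExt A (algebraMap A L)) : IsTamelyRamified A (algebraMap A L) := by
  let C := integralClosure A L
  obtain ⟨q, hq⟩ := ExpChar.exists (A ⧸ maximalIdeal A)
  rw [Groth.Agent.Etalg.RamCrit.isTamelyRamified_iff (K := K) C q]
  rw [Groth.Agent.Etalg.RamCrit.isUnramifiedExt_iff (K := K) C] at h
  intro n _ _
  rw [h n]
  exact Nat.coprime_one_right _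

/-- A morphism from the spectrum of a field factors through the residue field of its image. -/
theorem exists_factor {X : Scheme.{u}} (F : Type u) [Field F] (f : Spec (CommRingCat.of F) ⟶ X)
    (x : X) (hx : f (IsLocalRing.closedPoint F) = x) :
    ∃ φ : X.residueField x ⟶ CommRingCat.of F, Spec.map φ ≫ X.fromSpecResidueField x = f := by
  subst hx
  exact ⟨_, Scheme.descResidueField_stalkClosedPointTo_fromSpecResidueField F X f⟩

/-- If `Spec κ(y) ⟶ P ⟶ Y` is the canonical map with `P` affine over `K`, then `κ(y)` is generated by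
the functions on `P`. -/
theorem adjoin_eq_top {Y : Scheme.{u}} (y : Y) (K C : Type u) [Field K] [CommRing C]
    (κ : K →+* Y.residueField y) (γ : C →+* Y.residueField y)
    (halg : @Algebra.IsAlgebraic K (Y.residueField y) _ _ κ.toAlgebra)
    (b : Spec (CommRingCat.of C) ⟶ Y)
    (hb : Spec.map (CommRingCat.ofHom γ) ≫ b = Y.fromSpecResidueField y) :
    @Algebra.adjoin K (Y.residueField y) _ _ κ.toAlgebra (Set.range γ) = ⊤ := by
  let _ : Algebra K (Y.residueField y) := κ.toAlgebra
  let B : IntermediateField K (Y.residueField y) := IntermediateField.adjoin K (Set.range γ)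
  have hB1 : B.toSubalgebra = Algebra.adjoin K (Set.range γ) :=
    IntermediateField.adjoin_toSubalgebra_of_isAlgebraic fun x _ => halg.isAlgebraic x
  have hγB : ∀ c : C, γ c ∈ B := fun c => IntermediateField.subset_adjoin K _ ⟨c, rfl⟩
  let γ' : C →+* B := γ.codRestrict B.toSubring hγB
  let i : B →+* Y.residueField y := B.val.toRingHom
  have hγ' : i.comp γ' = γ := rfl
  let b' : Spec (CommRingCat.of B) ⟶ Y := Spec.map (CommRingCat.ofHom γ') ≫ b
  have hb' : Spec.map (CommRingCat.ofHom i) ≫ b' = Y.fromSpecResidueField y := by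
    change Spec.map _ ≫ Spec.map _ ≫ b = _
    rw [← Category.assoc, ← Spec.map_comp, ← CommRingCat.ofHom_comp, hγ', hb]
  have hpt : b' (IsLocalRing.closedPoint B) = y := by
    have h1 : IsLocalRing.closedPoint B =
        Spec.map (CommRingCat.ofHom i) (IsLocalRing.closedPoint (Y.residueField y)) :=
      Subsingleton.elim (α := PrimeSpectrum B) _ _
    rw [h1, ← Scheme.Hom.comp_apply, hb', Scheme.fromSpecResidueField_apply]
  obtain ⟨φ, hφ⟩ := exists_factor B b' y hpt
  have h2 : φ ≫ CommRingCat.ofHom i = 𝟙 _ := by
    apply Spec.map_injective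
    rw [← cancel_mono (Y.fromSpecResidueField y), Spec.map_comp, Category.assoc, hφ, hb',
      Spec.map_id]
    exact (Category.id_comp _).symm
  rw [← hB1, eq_top_iff]
  intro z _
  have h3 : i (φ.hom z) = z := congr($(h2).hom z)
  rw [← h3]
  exact (φ.hom z).2

theorem exists_common_form {A K L C : Type*} [CommRing A] [IsDomain A] [Field K] [Algebra A K]
    [IsFractionRing A K] [Field L] [Algebra K L] [Algebra A L] [IsScalarTower A K L] [CommRing C]
    [Algebra A C] [Algebra C L] [IsScalarTower A C L]
    (h : Algebra.adjoin K (Set.range (algebraMap C L)) = ⊤) (x : L) :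
    ∃ (c : C) (a : A), a ≠ 0 ∧ x * algebraMap A L a = algebraMap C L c := by
  have hx : x ∈ Algebra.adjoin K (Set.range (algebraMap C L)) := by rw [h]; trivial
  induction hx using Algebra.adjoin_induction with
  | mem x hx =>
    obtain ⟨c, rfl⟩ := hx
    exact ⟨c, 1, one_ne_zero, by rw [map_one, mul_one]⟩
  | algebraMap r =>
    obtain ⟨⟨a, s⟩, hs⟩ := IsLocalization.surj (nonZeroDivisors A) r
    refine ⟨algebraMap A C a, s, nonZeroDivisors.ne_zero s.2, ?_⟩
    rw [IsScalarTower.algebraMap_apply A K L, ← map_mul, hs, ← IsScalarTower.algebraMap_apply,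
      ← IsScalarTower.algebraMap_apply]
  | add x y _ _ hx hy =>
    obtain ⟨c, a, ha, h1⟩ := hx
    obtain ⟨d, b, hb, h2⟩ := hy
    refine ⟨c * algebraMap A C b + d * algebraMap A C a, a * b, mul_ne_zero ha hb, ?_⟩
    rw [map_add, map_mul, map_mul, map_mul, ← h1, ← h2, ← IsScalarTower.algebraMap_apply,
      ← IsScalarTower.algebraMap_apply]
    ring
  | mul x y _ _ hx hy =>
    obtain ⟨c, a, ha, h1⟩ := hx
    obtain ⟨d, b, hb, h2⟩ := hy
    refine ⟨c * d, a * b, mul_ne_zero ha hb, ?_⟩
    rw [map_mul, map_mul, ← h1, ← h2]
    ring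

/-- A finite étale cover, at a point of the base through which a DVR factors, is unramified. -/
theorem isUnramifiedExt_residueField {X Y : Scheme.{u}} (f : Y ⟶ X) [IsFinite f] [Etale f] (y : Y)
    (A : Type u) [CommRing A] [IsDomain A] [IsDiscreteValuationRing A]
    [Algebra A (X.residueField (f y))] [IsFractionRing A (X.residueField (f y))]
    (l : Spec (CommRingCat.of A) ⟶ X)
    (hl : Spec.map (CommRingCat.ofHom (algebraMap A (X.residueField (f y)))) ≫ l =
      X.fromSpecResidueField (f y)) :
    IsUnramifiedExt A ((f.residueFieldMap y).hom.comp (algebraMap A (X.residueField (f y)))) := by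
  let P := pullback f l
  let q : P ⟶ Spec (CommRingCat.of A) := pullback.snd f l
  have hPaff : IsAffine P := isAffine_of_isAffineHom q
  let C : Type u := Γ(P, ⊤)
  let e : P ≅ Spec (CommRingCat.of C) := P.isoSpec
  obtain ⟨φ, hφ⟩ := Spec.map_surjective (e.inv ≫ q)
  have hfin : φ.hom.Finite := by
    rw [← IsFinite.SpecMap_iff, hφ]
    infer_instance
  have het : φ.hom.Etale := by
    have h1 : Etale (Spec.map φ) := by rw [hφ]; infer_instance
    exact (HasRingHomProperty.Spec_iff (P := @Etale)).mp h1
  have hcond : Y.fromSpecResidueField y ≫ f = (Spec.map (f.residueFieldMap y) ≫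
      Spec.map (CommRingCat.ofHom (algebraMap A (X.residueField (f y))))) ≫ l :=
    ((Scheme.Hom.SpecMap_residueFieldMap_fromSpecResidueField f y).symm.trans
      (congrArg (fun m => Spec.map (f.residueFieldMap y) ≫ m) hl.symm)).trans
      (Category.assoc _ _ _).symm
  let t : Spec (Y.residueField y) ⟶ P := pullback.lift (Y.fromSpecResidueField y) _ hcond
  obtain ⟨γ, hγ⟩ := Spec.map_surjective (t ≫ e.hom)
  have hγφ : φ ≫ γ = CommRingCat.ofHom (algebraMap A (X.residueField (f y))) ≫
      f.residueFieldMap y := by
    apply Spec.map_injective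
    rw [Spec.map_comp, Spec.map_comp, hγ, hφ, Category.assoc, Iso.hom_inv_id_assoc]
    exact pullback.lift_snd _ _ _
  let _ : Algebra (X.residueField (f y)) (Y.residueField y) := (f.residueFieldMap y).hom.toAlgebra
  let _ : Algebra A (Y.residueField y) :=
    ((f.residueFieldMap y).hom.comp (algebraMap A (X.residueField (f y)))).toAlgebra
  have tw1 : IsScalarTower A (X.residueField (f y)) (Y.residueField y) :=
    IsScalarTower.of_algebraMap_eq' rfl
  let _ : Algebra A C := φ.hom.toAlgebra
  let _ : Algebra C (Y.residueField y) := γ.hom.toAlgebra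
  have tw2 : IsScalarTower A C (Y.residueField y) := IsScalarTower.of_algebraMap_eq fun a =>
    (congr($(hγφ).hom a)).symm
  have hfinC : Module.Finite A C := hfin
  have hetC : Algebra.Etale A C := het
  have hunr : Algebra.FormallyUnramified A C := inferInstance
  have hsep : Algebra.IsSeparable (X.residueField (f y)) (Y.residueField y) := inferInstance
  have halg : Algebra.IsAlgebraic (X.residueField (f y)) (Y.residueField y) := inferInstance
  have hadj := adjoin_eq_top y (X.residueField (f y)) C (f.residueFieldMap y).hom γ.hom halg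
    (e.inv ≫ pullback.fst f l) (by
      change Spec.map γ ≫ _ = _
      rw [hγ, Category.assoc, Iso.hom_inv_id_assoc]
      exact pullback.lift_fst _ _ _)
  exact RamEtale.isUnramifiedExt_of_unramified (A := A) (C := C) (L := Y.residueField y)
    ((f.residueFieldMap y).hom.injective.comp (IsFractionRing.injective A _))
    (exists_common_form (K := X.residueField (f y)) hadj)

theorem finiteDimensional_residueField {X Y : Scheme.{u}} (f : Y ⟶ X) [IsFinite f] (y : Y) :
    (f.residueFieldMap y).hom.Finite :=
  (QFinBasic.isClosed_asFiber_iff f y).mp (f.quasiFiniteAt y).isClopen_singleton_asFiber.1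

theorem isTamelyRamified_residueField {X Y : Scheme.{u}} (f : Y ⟶ X) [IsFinite f] [Etale f] (y : Y)
    (A : Type u) [CommRing A] [IsDomain A] [IsDiscreteValuationRing A]
    [Algebra A (X.residueField (f y))] [IsFractionRing A (X.residueField (f y))]
    (l : Spec (CommRingCat.of A) ⟶ X)
    (hl : Spec.map (CommRingCat.ofHom (algebraMap A (X.residueField (f y)))) ≫ l =
      X.fromSpecResidueField (f y)) :
    IsTamelyRamified A ((f.residueFieldMap y).hom.comp (algebraMap A (X.residueField (f y)))) := by
  have h := isUnramifiedExt_residueField f y A l hl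
  let _ : Algebra (X.residueField (f y)) (Y.residueField y) := (f.residueFieldMap y).hom.toAlgebra
  let _ : Algebra A (Y.residueField y) :=
    ((f.residueFieldMap y).hom.comp (algebraMap A (X.residueField (f y)))).toAlgebra
  have tw1 : IsScalarTower A (X.residueField (f y)) (Y.residueField y) :=
    IsScalarTower.of_algebraMap_eq' rfl
  have hsep : Algebra.IsSeparable (X.residueField (f y)) (Y.residueField y) := inferInstance
  have hfin : FiniteDimensional (X.residueField (f y)) (Y.residueField y) :=
    finiteDimensional_residueField f y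
  exact isTamelyRamified_of_isUnramifiedExt A (K := X.residueField (f y)) h

/-- The valuative criterion of properness for a valuation subring of a residue field. -/
theorem exists_lift {k : Type u} [Field k] {X : Scheme.{u}} (s : X ⟶ Spec (CommRingCat.of k))
    [IsProper s] (x : X) (A : ValuationSubring (X.residueField x))
    (a : Spec (CommRingCat.of A) ⟶ Spec (CommRingCat.of k))
    (ha : Spec.map (CommRingCat.ofHom A.subtype) ≫ a = X.fromSpecResidueField x ≫ s) :
    ∃ l : Spec (CommRingCat.of A) ⟶ X,
      Spec.map (CommRingCat.ofHom (algebraMap A (X.residueField x))) ≫ l =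
        X.fromSpecResidueField x := by
  have h1 : ValuativeCriterion s := by
    have h0 : (ValuativeCriterion ⊓ @QuasiCompact ⊓ @QuasiSeparated ⊓ @LocallyOfFiniteType) s := by
      rw [← IsProper.eq_valuativeCriterion]
      infer_instance
    exact h0.1.1.1
  let S : ValuativeCommSq s :=
    { R := A
      K := X.residueField x
      i₁ := X.fromSpecResidueField x
      i₂ := a
      commSq := ⟨ha.symm⟩ }
  have h2 := h1.existence S
  exact ⟨h2.exists_lift.some.l, h2.exists_lift.some.fac_left⟩

end K585.RamProper
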